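import Groth.Agent.Lib.GVanish.Sober
import Groth.Agent.Lib.NoethTop.Soberification
import Groth.Agent.Lib.SheafCoh.ClosedEmb
import Groth.Agent.Lib.SheafCoh.Leray
import Mathlib.Topology.KrullDimension

/-! # Grothendieck vanishing on Noetherian spaces -/

set_option autoImplicit false
set_option linter.style.haveILetI false
universe u

open CategoryTheory CategoryTheory.Limits Opposite TopologicalSpace

namespace GrothLib.GVanish

noncomputable section

variable {X : TopCat.{u}}

/-- The map to the soberification. -/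
def sobMap (X : TopCat.{u}) : X ⟶ TopCat.of (PtTop.Sob X) :=
  TopCat.ofHom ⟨PtTop.toSob X, Soberification.continuous_toSob⟩

theorem isZero_Rpush_sobMap (F : CohTop.Ab X) (q : ℕ) :
    IsZero ((CohTop.Rpush (sobMap X) (q + 1)).obj F) := by
  refine IsZero.of_iso ?_ (SheafCoh.topRpushIso (sobMap X) F (q + 1))
  refine SheafCoh.isZero_sheafify_of_res_locally_zero _ fun V ξ => ?_
  let P : (Opens (TopCat.of (PtTop.Sob X)))ᵒᵖ ⥤ AddCommGrpCat.{u} :=
    (Opens.map (sobMap X)).op ⋙ Sheaf.cohomologyPresheaf.{u} F (q + 1)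
  let S : Sieve V :=
    { arrows := fun W g => P.map g.op ξ = 0
      downward_closed := fun {W W'} g hg h => by
        rw [op_comp, P.map_comp, ConcreteCategory.comp_apply, hg, map_zero] }
  refine ⟨S, fun Z hZ => ?_, fun W g hg => hg⟩
  obtain ⟨U, hU, hVU⟩ := Soberification.exists_eq_phi (show IsOpen (V : Set (PtTop.Sob X)) from V.2)
  obtain ⟨y, hy, hyU⟩ := (show Z ∈ Soberification.phi U from hVU.le hZ)
  have hyV : y ∈ (Opens.map (sobMap X)).obj V := by
    show PtTop.toSob X y ∈ (V : Set (PtTop.Sob X))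
    rw [hVU]
    exact (Soberification.preimage_phi hU).symm.le hyU
  obtain ⟨T, hT, hzero⟩ :=
    SheafCoh.exists_cover_res_eq_zero (J := Opens.grothendieckTopology X) F ((Opens.map (sobMap X)).obj V) q ξ
  obtain ⟨W, i, hW, hyW⟩ := hT y hyV
  let W' : Opens (TopCat.of (PtTop.Sob X)) := ⟨Soberification.phi (W : Set X), Soberification.isOpen_phi W.isOpen⟩
  refine ⟨V ⊓ W', homOfLE inf_le_left, ?_, hZ, y, hy, hyW⟩
  have hle : (Opens.map (sobMap X)).obj (V ⊓ W') ≤ W := fun z hz => (Soberification.preimage_phi W.isOpen).le hz.2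
  exact hzero _ (T.downward_closed hW (homOfLE hle))

theorem height_lt_top (d : ℕ) (hd : topologicalKrullDim X ≤ d) (Z : IrreducibleCloseds X) :
    Order.height Z ≤ d := by
  have h := (Order.height_le_krullDim Z).trans hd
  exact WithBot.coe_le_coe.1 h

/-- **Grothendieck vanishing.** -/
theorem subsingleton_H_of_krullDim_le [NoetherianSpace X] (d : ℕ) (hd : topologicalKrullDim X ≤ d)
    (F : CohTop.Ab X) (p : ℕ) (hp : d < p) : Subsingleton (CohTop.H F p) := by
  haveI : NoetherianSpace (TopCat.of (PtTop.Sob X)) := Soberification.noetherianSpace (X := X)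
  haveI : QuasiSober (TopCat.of (PtTop.Sob X)) := Soberification.quasiSober (X := X)
  obtain ⟨e⟩ := SheafCoh.nonempty_H_addEquiv_push (sobMap X) F (isZero_Rpush_sobMap F) p
  refine @Equiv.subsingleton _ _ e.toEquiv ?_
  let rk : TopCat.of (PtTop.Sob X) → ℕ := fun Z => (Order.height (show IrreducibleCloseds X from Z)).toNat
  refine subsingleton_H_of_support rk (fun η Z hηZ hne => ?_) (d + 1) _ (fun x hx => absurd hx ?_) p hp
  · let η' : IrreducibleCloseds X := η
    let Z' : IrreducibleCloseds X := Z
    have hle : Z' ≤ η' := fun z hz => by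
      by_contra hzη
      obtain ⟨w, hw, hw'⟩ := hηZ.mem_open (Soberification.isOpen_phi η'.isClosed.isOpen_compl)
        (show Z ∈ Soberification.phi (η' : Set X)ᶜ from ⟨z, hz, hzη⟩)
      exact hw' hw
    have hlt : Z' < η' := hle.lt_of_ne fun h => hne h.symm
    have h1 := Order.height_strictMono hlt ((height_lt_top d hd Z').trans_lt (ENat.coe_lt_top d))
    have h2 := height_lt_top d hd η'
    show (Order.height Z').toNat < (Order.height η').toNat
    lift Order.height η' to ℕ using ne_top_of_le_ne_top (ENat.coe_ne_top d) h2 with b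
    lift Order.height Z' to ℕ using h1.ne_top with a
    simpa using h1
  · have h2 := ENat.toNat_le_toNat (height_lt_top d hd x) (ENat.coe_ne_top d)
    rw [ENat.toNat_coe] at h2
    exact Nat.not_le.2 (Nat.lt_succ_of_le h2)

end

end GrothLib.GVanish
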