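import Groth.Agent.Lib.GVanish.FinSupp
import Groth.Agent.Lib.SheafCoh.Top

/-! # Grothendieck vanishing on sober Noetherian spaces -/

set_option autoImplicit false
set_option linter.style.haveILetI false
set_option maxHeartbeats 1000000
universe u

open CategoryTheory CategoryTheory.Limits Opposite TopologicalSpace CategoryTheory.Abelian

namespace GrothLib.GVanish

noncomputable section

open scoped Classical

variable {X : TopCat.{u}} (rk : X → ℕ) (hrk : ∀ η x : X, η ⤳ x → η ≠ x → rk x < rk η)

/-- The germs of a section are supported on a relatively closed set. -/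
theorem germ_ne_zero_of_mem_closure (F : CohTop.Ab X) {U : Opens X} (s : F.obj.obj (op U)) {η : X} (hη : η ∈ U)
    (h : η ∈ closure {y | ∃ hy : y ∈ U, TopCat.Presheaf.germ F.obj U y hy s ≠ 0}) :
    TopCat.Presheaf.germ F.obj U η hη s ≠ 0 := fun h0 => by
  obtain ⟨W, hW, i₁, i₂, e⟩ := TopCat.Presheaf.germ_eq F.obj η hη hη s 0 (h0.trans (map_zero _).symm)
  obtain ⟨y, hyW, hy, hne⟩ := mem_closure_iff.1 h W W.isOpen hW
  refine hne ?_
  rw [← TopCat.Presheaf.germ_res_apply F.obj i₁ y hyW s, e]
  exact (congrArg _ (map_zero _)).trans (map_zero _)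

variable [NoetherianSpace X] [QuasiSober X] (k : ℕ) (F : CohTop.Ab X)
  (hF : ∀ x, k < rk x → IsZero ((Godement25.st' x).obj F))

/-- The family of germs of a section at the points of rank `k`. -/
def germs (U : Opens X) (s : F.obj.obj (op U)) : Fam rk k F := fun x =>
  if h : x.1 ∈ U then TopCat.Presheaf.germ F.obj U x.1 h s else 0

include hrk hF in
theorem germs_finite (U : Opens X) (s : F.obj.obj (op U)) : {x : Pt rk k | germs rk k F U s x ≠ 0}.Finite := by
  let A : Set X := {y | ∃ hy : y ∈ U, TopCat.Presheaf.germ F.obj U y hy s ≠ 0}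
  obtain ⟨S, hSfin, hScl, hSirr, hS⟩ :=
    NoetherianSpace.exists_finite_set_isClosed_irreducible (α := X) (isClosed_closure (s := A))
  have hgen : ∀ t : S, ∃ η : X, IsGenericPoint η t.1 := fun t =>
    QuasiSober.sober (hSirr t.1 t.2) (hScl t.1 t.2)
  choose η hη using hgen
  haveI := hSfin.to_subtype
  refine Set.Finite.of_finite_image (f := Subtype.val) ((Set.finite_range η).subset ?_) Subtype.val_injective.injOn
  rintro _ ⟨x, hx, rfl⟩
  have hxU : x.1 ∈ U := by
    by_contra h
    exact hx (dif_neg h)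
  have hxA : x.1 ∈ closure A := subset_closure ⟨hxU, by simpa [germs, hxU] using hx⟩
  rw [hS] at hxA
  obtain ⟨t, ht, hxt⟩ := Set.mem_sUnion.1 hxA
  refine ⟨⟨t, ht⟩, by_contra fun hne => ?_⟩
  have hsp : η ⟨t, ht⟩ ⤳ x.1 := (hη ⟨t, ht⟩).specializes hxt
  have hηU : η ⟨t, ht⟩ ∈ U := hsp.mem_open U.isOpen hxU
  have hηA : η ⟨t, ht⟩ ∈ closure A := by
    rw [hS]
    exact Set.mem_sUnion.2 ⟨t, ht, (hη ⟨t, ht⟩).mem⟩
  have h1 := germ_ne_zero_of_mem_closure F s hηU hηA
  have h2 : k < rk (η ⟨t, ht⟩) := x.2 ▸ hrk _ _ hsp hne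
  haveI := AddCommGrpCat.subsingleton_of_isZero (hF _ h2)
  exact h1 (@Subsingleton.elim ((Godement25.st' (η ⟨t, ht⟩)).obj F) _ _ _)

/-- The map to the families of germs. -/
def toG : F ⟶ G rk k F :=
  ⟨{ app := fun U => AddCommGrpCat.ofHom
      { toFun := fun s => (⟨germs rk k F U.unop s, germs_finite rk hrk k F hF U.unop s, fun x hx => dif_neg hx⟩ :
          secs rk k F U.unop)
        map_zero' := Subtype.ext (funext fun x => by simp [germs])
        map_add' := fun s t => Subtype.ext (funext fun x => by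
          show germs rk k F U.unop (s + t) x = germs rk k F U.unop s x + germs rk k F U.unop t x
          by_cases h : x.1 ∈ U.unop <;> simp [germs, h]) }
     naturality := fun U V i => by
      ext s
      refine Subtype.ext (funext fun x => ?_)
      show germs rk k F V.unop (F.obj.map i s) x = if x.1 ∈ V.unop then germs rk k F U.unop s x else 0
      by_cases h : x.1 ∈ V.unop
      · rw [if_pos h]
        simp only [germs, dif_pos h, dif_pos (leOfHom i.unop h)]
        exact TopCat.Presheaf.germ_res_apply F.obj i.unop x.1 h s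
      · rw [if_neg h]
        exact dif_neg h }⟩

theorem toG_apply (U : Opens X) (s : F.obj.obj (op U)) (x : Pt rk k) :
    (show secs rk k F U from (toG rk hrk k F hF).hom.app (op U) s).1 x = germs rk k F U s x := rfl

include hrk in
/-- Families vanishing at the point have zero germ there, for points of rank at least `k`. -/
theorem germ_G_eq_zero {U : Opens X} (s : secs rk k F U) {x : X} (hxU : x ∈ U) (hk : k ≤ rk x)
    (h : ∀ hx : rk x = k, s.1 ⟨x, hx⟩ = 0) : TopCat.Presheaf.germ (pre rk k F) U x hxU s = 0 := by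
  refine germ_eq_zero rk k F s hxU fun y hy hcl => hy ?_
  have hsp : y.1 ⤳ x := specializes_iff_mem_closure.2 hcl
  by_cases he : y.1 = x
  · obtain ⟨y, hy'⟩ := y
    obtain rfl : y = x := he
    exact h hy'
  · have := hrk _ _ hsp he
    have := y.2
    omega

include hrk hF in
theorem mono_stalk_toG (x : X) (hk : k ≤ rk x) : Mono ((Godement25.st' x).map (toG rk hrk k F hF)) := by
  rw [AddCommGrpCat.mono_iff_injective]
  refine (injective_iff_map_eq_zero _).2 fun t ht => ?_
  rcases hk.eq_or_lt with he | hlt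
  · obtain ⟨U, hxU, s, rfl⟩ := TopCat.Presheaf.exists_germ_eq F.obj t
    have h1 : TopCat.Presheaf.germ (pre rk k F) U x hxU ((toG rk hrk k F hF).hom.app (op U) s) = 0 := by
      refine Eq.trans ?_ ht
      exact (TopCat.Presheaf.stalkFunctor_map_germ_apply U x hxU (toG rk hrk k F hF).hom s).symm
    obtain ⟨W, hW, i₁, i₂, e⟩ := TopCat.Presheaf.germ_eq (pre rk k F) x hxU hxU _ 0 (h1.trans (map_zero _).symm)
    have h2 := congrArg (fun z : secs rk k F W => z.1 ⟨x, he.symm⟩) e
    change (if x ∈ W then germs rk k F U s ⟨x, he.symm⟩ else 0) = (if x ∈ W then (0 : Fam rk k F) ⟨x, he.symm⟩ else 0) at h2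
    rw [if_pos hW, if_pos hW] at h2
    exact (dif_pos (c := x ∈ U) hxU).symm.trans h2
  · exact @Subsingleton.elim _ (AddCommGrpCat.subsingleton_of_isZero (hF x hlt)) _ _

include hrk hF in
theorem epi_stalk_toG (x : X) (hk : k ≤ rk x) : Epi ((Godement25.st' x).map (toG rk hrk k F hF)) := by
  rw [AddCommGrpCat.epi_iff_surjective]
  intro t
  obtain ⟨U, hxU, s, rfl⟩ := TopCat.Presheaf.exists_germ_eq (G rk k F).obj t
  let s' : secs rk k F U := s
  rcases hk.eq_or_lt with he | hlt
  · obtain ⟨W, hxW, w, hw⟩ := TopCat.Presheaf.exists_germ_eq F.obj (s'.1 ⟨x, he.symm⟩)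
    let V : Opens X := U ⊓ W
    refine ⟨TopCat.Presheaf.germ F.obj W x hxW w, ?_⟩
    refine (TopCat.Presheaf.stalkFunctor_map_germ_apply W x hxW (toG rk hrk k F hF).hom w).trans ?_
    let a : secs rk k F W := (toG rk hrk k F hF).hom.app (op W) w
    have hxV : x ∈ V := ⟨hxU, hxW⟩
    have key : TopCat.Presheaf.germ (pre rk k F) V x hxV (cut rk k F W V a - cut rk k F U V s') = 0 := by
      refine germ_G_eq_zero rk hrk k F _ hxV hk fun hx => ?_
      show (if x ∈ V then a.1 ⟨x, hx⟩ else 0) - (if x ∈ V then s'.1 ⟨x, hx⟩ else 0) = 0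
      rw [if_pos (show x ∈ V from ⟨hxU, hxW⟩), if_pos (show x ∈ V from ⟨hxU, hxW⟩), sub_eq_zero]
      show germs rk k F W w ⟨x, hx⟩ = _
      simp only [germs, dif_pos hxW]
      exact hw
    have key' : TopCat.Presheaf.germ (pre rk k F) V x hxV (cut rk k F W V a) =
        TopCat.Presheaf.germ (pre rk k F) V x hxV (cut rk k F U V s') :=
      sub_eq_zero.1 ((map_sub _ _ _).symm.trans key)
    exact (TopCat.Presheaf.germ_res_apply (pre rk k F) (homOfLE (inf_le_right : V ≤ W)) x hxV a).symm.trans
      (key'.trans (TopCat.Presheaf.germ_res_apply (pre rk k F) (homOfLE (inf_le_left : V ≤ U)) x hxV s'))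
  · refine ⟨0, (map_zero _).trans ?_⟩
    exact (germ_G_eq_zero rk hrk k F s' hxU hk fun hx => absurd hx hlt.ne').symm

theorem isZero_stalk_kernel {A B : CohTop.Ab X} (φ : A ⟶ B) (x : X) [Mono ((Godement25.st' x).map φ)] :
    IsZero ((Godement25.st' x).obj (kernel φ)) := by
  haveI : Mono ((Godement25.st' x).map (kernel.ι φ)) := (Godement25.st' x).map_mono _
  refine IsZero.of_mono_eq_zero ((Godement25.st' x).map (kernel.ι φ)) ?_
  rw [← cancel_mono ((Godement25.st' x).map φ), zero_comp, ← Functor.map_comp, kernel.condition, Functor.map_zero]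

theorem isZero_stalk_cokernel {A B : CohTop.Ab X} (φ : A ⟶ B) (x : X) [Epi ((Godement25.st' x).map φ)] :
    IsZero ((Godement25.st' x).obj (cokernel φ)) := by
  haveI : Epi ((Godement25.st' x).map (cokernel.π φ)) := (Godement25.st' x).map_epi _
  refine IsZero.of_epi_eq_zero ((Godement25.st' x).map (cokernel.π φ)) ?_
  rw [← cancel_epi ((Godement25.st' x).map φ), comp_zero, ← Functor.map_comp, cokernel.condition, Functor.map_zero]

theorem subsingleton_H_middle {S : ShortComplex (CohTop.Ab X)} (hS : S.ShortExact) (n : ℕ)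
    (h₁ : Subsingleton (CohTop.H S.X₁ n)) (h₃ : Subsingleton (CohTop.H S.X₃ n)) :
    Subsingleton (CohTop.H S.X₂ n) := by
  refine subsingleton_of_forall_eq 0 fun x => ?_
  obtain ⟨y, hy⟩ := Ext.covariant_sequence_exact₂ _ hS x (Subsingleton.elim (α := CohTop.H S.X₃ n) _ _)
  rw [← hy, show y = 0 from Subsingleton.elim (α := CohTop.H S.X₁ n) _ _, Ext.zero_comp]

theorem subsingleton_H_left {S : ShortComplex (CohTop.Ab X)} (hS : S.ShortExact) (n : ℕ)
    (h₂ : Subsingleton (CohTop.H S.X₂ (n + 1))) (h₃ : Subsingleton (CohTop.H S.X₃ n)) :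
    Subsingleton (CohTop.H S.X₁ (n + 1)) := by
  refine subsingleton_of_forall_eq 0 fun x => ?_
  obtain ⟨y, hy⟩ := Ext.covariant_sequence_exact₁ _ hS x (Subsingleton.elim (α := CohTop.H S.X₂ (n + 1)) _ _) rfl
  rw [← hy, show y = 0 from Subsingleton.elim (α := CohTop.H S.X₃ n) _ _, Ext.zero_comp]

include hrk in
/-- **Vanishing above the rank of the support.** -/
theorem subsingleton_H_of_support : ∀ (k : ℕ) (F : CohTop.Ab X),
    (∀ x, k ≤ rk x → IsZero ((Godement25.st' x).obj F)) → ∀ p, k ≤ p → Subsingleton (CohTop.H F p)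
  | 0, F, hF, p, _ => by
    have hz : IsZero F := (TopCat.Sheaf.isZero_iff_stalkFunctor_obj_isZero (C := AddCommGrpCat.{u}) F).2
      fun x => hF x (Nat.zero_le _)
    refine subsingleton_of_forall_eq 0 fun y => ?_
    rw [← Sheaf.H.map_id_apply y, hz.eq_of_src (𝟙 F) 0, Sheaf.H.map_apply, Ext.mk₀_zero, Ext.comp_zero]
  | k + 1, F, hF, p, hp => by
    obtain ⟨m, rfl⟩ : ∃ m, p = m + 1 := ⟨p - 1, by omega⟩
    have hF' : ∀ x, k < rk x → IsZero ((Godement25.st' x).obj F) := fun x hx => hF x hx
    let φ := toG rk hrk k F hF'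
    have hK := subsingleton_H_of_support k (kernel φ)
      (fun x hx => haveI := mono_stalk_toG rk hrk k F hF' x hx; isZero_stalk_kernel φ x)
    have hC := subsingleton_H_of_support k (cokernel φ)
      (fun x hx => haveI := epi_stalk_toG rk hrk k F hF' x hx; isZero_stalk_cokernel φ x)
    have hS₂ : (ShortComplex.mk (Abelian.image.ι φ) (cokernel.π φ) (kernel.condition _)).ShortExact :=
      { exact := ShortComplex.exact_of_f_is_kernel _ (kernelIsKernel _) }
    have hS₁ : (ShortComplex.mk (kernel.ι φ) (Abelian.factorThruImage φ) (by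
        rw [← cancel_mono (Abelian.image.ι φ), Category.assoc, Abelian.image.fac, kernel.condition,
          zero_comp])).ShortExact :=
      { exact := by
          refine ShortComplex.exact_of_f_is_kernel _ (KernelFork.IsLimit.ofι _ _
            (fun {W} g hg => kernel.lift φ g (by rw [← Abelian.image.fac φ, ← Category.assoc, hg, zero_comp]))
            (fun {W} g hg => kernel.lift_ι _ _ _) fun {W} g hg b hb => ?_)
          rw [← cancel_mono (kernel.ι φ), kernel.lift_ι]
          exact hb }
    haveI := isFlasque_G rk k F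
    exact subsingleton_H_middle hS₁ (m + 1) (hK (m + 1) (by omega))
      (subsingleton_H_left hS₂ m (SheafCoh.flasque_H_subsingleton (G rk k F) m) (hC m (by omega)))

end

end GrothLib.GVanish
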