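import Groth.Agent.Lib.GVanish.Support
import Groth.Agent.Lib.BCCoh.FlatBC
import Groth.Agent.Lib.BCCoh.ElemHom
import Groth.Agent.Lib.FormalSys.Quot
import Groth.Agent.Lib.WeakAss.Basic
import Groth.Agent.Lib.CohPullLib.Edge
import Mathlib.RingTheory.AdicCompletion.Noetherian

/-! # Higher direct images vanish above the fibre dimension -/

set_option autoImplicit false
set_option linter.style.haveILetI false
set_option backward.isDefEq.respectTransparency false
set_option maxHeartbeats 2000000
universe u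

noncomputable section

open CategoryTheory CategoryTheory.Limits AlgebraicGeometry Opposite TopologicalSpace

namespace GrothLib.GVanish

open GrothLib.BCCoh

variable {A : Type u} [CommRing A] {X : Scheme.{u}} [X.Over (Spec (CommRingCat.of A))] [IsLocallyNoetherian X]

theorem isUnit_psi_germ {x : X} {a : A} (ha : a ∉ ((X ↘ Spec (CommRingCat.of A)) x).asIdeal) :
    IsUnit (X.presheaf.germ (⊤ : X.Opens) x trivial (psi (X ↘ Spec (CommRingCat.of A)) ⊤ a)) := by
  refine (Scheme.mem_basicOpen X _ x (U := ⊤) trivial).1 ?_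
  let f := X ↘ Spec (CommRingCat.of A)
  have h : f x ∈ (Spec (CommRingCat.of A)).basicOpen ((Scheme.ΓSpecIso (CommRingCat.of A)).inv a) := by
    rw [basicOpen_eq_of_affine]
    exact ha
  have h2 : x ∈ f ⁻¹ᵁ (Spec (CommRingCat.of A)).basicOpen ((Scheme.ΓSpecIso (CommRingCat.of A)).inv a) := h
  rw [Scheme.preimage_basicOpen] at h2
  have h3 : psi f ⊤ a = f.appTop ((Scheme.ΓSpecIso (CommRingCat.of A)).inv a) := by
    show X.presheaf.map (homOfLE le_top).op (Coh.toGlobal f a) = _
    rw [show (homOfLE (le_top : (⊤ : X.Opens) ≤ ⊤)).op = 𝟙 _ from rfl, CategoryTheory.Functor.map_id]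
    rfl
  rw [h3]
  exact h2

/-- A module killed by an ideal has zero stalk off its zero set. -/
theorem subsingleton_stalk_of_killedBy {J : Ideal A} {G : X.Modules} (hG : Formal.KilledBy J G) {x : X} {a : A}
    (ha : a ∈ J) (hx : a ∉ ((X ↘ Spec (CommRingCat.of A)) x).asIdeal) : Subsingleton (G.presheaf.stalk x) := by
  refine subsingleton_of_forall_eq 0 fun t => ?_
  obtain ⟨V, hxV, s, rfl⟩ := TopCat.Presheaf.exists_germ_eq G.presheaf t
  let f := X ↘ Spec (CommRingCat.of A)
  have h0 : psi f V a • s = 0 := by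
    rw [← smulMod_app, hG a ha]
    rfl
  have h1 : X.presheaf.germ V x hxV (psi f V a) • G.presheaf.germ V x hxV s = 0 := by
    rw [← WeakAss.germ_smul, h0, map_zero]
  have hu : IsUnit (X.presheaf.germ V x hxV (psi f V a)) := by
    have he : X.presheaf.germ V x hxV (psi f V a) = X.presheaf.germ (⊤ : X.Opens) x trivial (psi f ⊤ a) := by
      show X.presheaf.germ V x hxV (X.presheaf.map _ _) = X.presheaf.germ (⊤ : X.Opens) x trivial (X.presheaf.map _ _)
      rw [TopCat.Presheaf.germ_res_apply, TopCat.Presheaf.germ_res_apply]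
    rw [he]
    exact isUnit_psi_germ hx
  exact hu.smul_eq_zero.1 h1

end GrothLib.GVanish

namespace GrothLib.GVanish

open GrothLib.BCCoh

/-- **Vanishing of the stalk above the fibre dimension.** -/
theorem isZero_stalk_RpushAb_of_dim_lt {X Y : Scheme.{u}} (f : X ⟶ Y) [IsProper f] [IsLocallyNoetherian Y]
    [HasInjectiveResolutions X.Modules] (y : Y) (d : ℕ) (hd : topologicalKrullDim ↥(f.fiber y) ≤ d)
    (M : X.Modules) (hM : Coh.IsCoh M) (p : ℕ) (hp : d < p)
    (hfor : ∀ (X₁ : Scheme.{u}) [X₁.Over (Spec (CommRingCat.of (Y.presheaf.stalk y)))] (g : X₁ ⟶ X),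
      IsPullback g (X₁ ↘ Spec (CommRingCat.of (Y.presheaf.stalk y))) f (Y.fromSpecStalk y) →
      Module.Finite (Y.presheaf.stalk y) (((Coh.Rpush f p).obj M).presheaf.stalk y) ∧
      Nonempty (AdicCompletion (IsLocalRing.maximalIdeal (Y.presheaf.stalk y))
        (((Coh.Rpush f p).obj M).presheaf.stalk y) ≃+
        Formal.HHlim (IsLocalRing.maximalIdeal (Y.presheaf.stalk y)) ((Scheme.Modules.pullback g).obj M) p)) :
    IsZero (TopCat.Presheaf.stalk ((Coh.RpushAb f p).obj (Coh.toAb M)).obj y) := by
  let O := Y.presheaf.stalk y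
  let X₁ : Scheme.{u} := pullback f (Y.fromSpecStalk y)
  letI : X₁.Over (Spec (CommRingCat.of O)) := ⟨pullback.snd f (Y.fromSpecStalk y)⟩
  let P : X₁ ⟶ Spec (CommRingCat.of O) := pullback.snd f (Y.fromSpecStalk y)
  have hsq : IsPullback (pullback.fst f (Y.fromSpecStalk y)) P f (Y.fromSpecStalk y) :=
    IsPullback.of_hasPullback _ _
  haveI : IsProper P := MorphismProperty.of_isPullback (P := @IsProper) hsq ‹IsProper f›
  haveI : IsProper (X₁ ↘ Spec (CommRingCat.of O)) := ‹IsProper P›
  haveI : IsLocallyNoetherian X₁ := LocallyOfFiniteType.isLocallyNoetherian P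
  -- the closed fibre
  let Z : Scheme.{u} := pullback P (Spec.map (Y.residue y))
  let i : Z ⟶ X₁ := pullback.fst P (Spec.map (Y.residue y))
  haveI : IsClosedImmersion (Spec.map (Y.residue y)) :=
    IsClosedImmersion.spec_of_surjective _ (IsLocalRing.residue_surjective)
  haveI : IsClosedImmersion i := MorphismProperty.pullback_fst _ _ inferInstance
  haveI hZn : NoetherianSpace Z.toTopCat := by
    haveI : IsProper (pullback.snd P (Spec.map (Y.residue y))) := inferInstance
    haveI : IsLocallyNoetherian Z := LocallyOfFiniteType.isLocallyNoetherian (pullback.snd P (Spec.map (Y.residue y)))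
    haveI : CompactSpace Z := QuasiCompact.compactSpace_of_compactSpace (pullback.snd P (Spec.map (Y.residue y)))
    haveI : IsNoetherian Z := {}
    show NoetherianSpace Z
    infer_instance
  have hdim : topologicalKrullDim Z.toTopCat ≤ d := by
    have big : IsPullback (i ≫ pullback.fst f (Y.fromSpecStalk y)) (pullback.snd P (Spec.map (Y.residue y))) f
        (Y.fromSpecResidueField y) :=
      (IsPullback.of_hasPullback P (Spec.map (Y.residue y))).paste_horiz hsq
    let e : Z ≅ f.fiber y := big.isoPullback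
    show topologicalKrullDim Z ≤ d
    rw [IsHomeomorph.topologicalKrullDim_eq _ e.hom.homeomorph.isHomeomorph]
    exact hd
  obtain ⟨hfin, ⟨E⟩⟩ := hfor X₁ (pullback.fst f (Y.fromSpecStalk y)) hsq
  have hlvl : ∀ n, Subsingleton (Formal.HHmodPow (IsLocalRing.maximalIdeal O)
      ((Scheme.Modules.pullback (pullback.fst f (Y.fromSpecStalk y))).obj M) p n) := fun n => by
    refine subsingleton_H_of_closedEmbedding (Z := Z.toTopCat) (X := X₁.toTopCat) i.base i.isClosedEmbedding d hdim _
      (fun x hx => ?_) p hp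
    have hxP : ((X₁ ↘ Spec (CommRingCat.of O)) x) ≠ IsLocalRing.closedPoint O := fun he => by
      refine hx ?_
      show x ∈ Set.range i
      rw [Scheme.Pullback.range_fst]
      show P x ∈ Set.range (Spec.map (Y.residue y))
      exact ⟨IsLocalRing.closedPoint (Y.residueField y), (Scheme.SpecMap_residue_apply y _).trans he.symm⟩
    obtain ⟨a, ha, hax⟩ : ∃ a ∈ IsLocalRing.maximalIdeal O, a ∉ ((X₁ ↘ Spec (CommRingCat.of O)) x).asIdeal := by
      by_contra hne
      refine hxP (PrimeSpectrum.ext ?_)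
      exact le_antisymm (IsLocalRing.le_maximalIdeal ((X₁ ↘ Spec (CommRingCat.of O)) x).isPrime.ne_top)
        fun a ha => by_contra fun h => hne ⟨a, ha, h⟩
    haveI := subsingleton_stalk_of_killedBy
      (GrothLib.FormalSys.killedBy_modPow (I := IsLocalRing.maximalIdeal O) (n + 1)
        ((Scheme.Modules.pullback (pullback.fst f (Y.fromSpecStalk y))).obj M))
      (x := x) (Ideal.pow_mem_pow ha (n + 1)) (fun h => hax (((X₁ ↘ Spec (CommRingCat.of O)) x).isPrime.mem_of_pow_mem _ h))
    exact @AddCommGrpCat.isZero_of_subsingleton _ this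
  haveI hlim : Subsingleton (Formal.HHlim (IsLocalRing.maximalIdeal O)
      ((Scheme.Modules.pullback (pullback.fst f (Y.fromSpecStalk y))).obj M) p) :=
    ⟨fun a b => Subtype.ext (funext fun n => @Subsingleton.elim _ (hlvl n) _ _)⟩
  haveI := hfin
  haveI : Subsingleton (((Coh.Rpush f p).obj M).presheaf.stalk y) :=
    have := E.toEquiv.subsingleton
    (AdicCompletion.of_injective (IsLocalRing.maximalIdeal O) _).subsingleton
  obtain ⟨I⟩ := Cohom.nonempty_flRes M
  obtain ⟨e₁⟩ := Cohom.nonempty_Rpush_iso f I p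
  obtain ⟨e₂⟩ := Cohom.nonempty_homology_iso_RpushAb f I p
  let eAb := ((SheafOfModules.toSheaf Y.ringCatSheaf).mapIso e₁.symm).symm ≪≫ e₂
  refine IsZero.of_iso ?_ (((sheafToPresheaf _ _ ⋙ TopCat.Presheaf.stalkFunctor AddCommGrpCat.{u} y).mapIso eAb).symm)
  exact @AddCommGrpCat.isZero_of_subsingleton _ ‹Subsingleton (((Coh.Rpush f p).obj M).presheaf.stalk y)›

end GrothLib.GVanish
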