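import Groth.Agent.Lib.Godement25.Sheaf
import Mathlib.Topology.NoetherianSpace
import Mathlib.Topology.Sheaves.SheafCondition.UniqueGluing
import Mathlib.Topology.Sober

/-! # The sum of the skyscrapers of the stalks at the points of one rank -/

set_option autoImplicit false
set_option linter.style.haveILetI false
universe u

open CategoryTheory CategoryTheory.Limits Opposite TopologicalSpace

namespace GrothLib.GVanish

noncomputable section

open scoped Classical

variable {X : TopCat.{u}} (rk : X → ℕ) (k : ℕ) (F : CohTop.Ab X)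

/-- The points of rank `k`. -/
abbrev Pt : Type u := {x : X // rk x = k}

/-- Families of stalks at the points of rank `k`. -/
abbrev Fam : Type u := ∀ x : Pt rk k, (TopCat.Presheaf.stalk F.obj x.1 : AddCommGrpCat.{u})

/-- The families with finite support inside an open. -/
def secs (U : Opens X) : AddSubgroup (Fam rk k F) where
  carrier := {s | {x | s x ≠ 0}.Finite ∧ ∀ x, x.1 ∉ U → s x = 0}
  zero_mem' := ⟨by simp, fun _ _ => rfl⟩
  add_mem' {s t} hs ht := ⟨(hs.1.union ht.1).subset fun x hx => by
      by_contra h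
      simp only [Set.mem_union, Set.mem_setOf_eq, not_or, not_not] at h
      exact hx (by simp [h.1, h.2]), fun x hx => by simp [hs.2 x hx, ht.2 x hx]⟩
  neg_mem' {s} hs := ⟨hs.1.subset fun x hx h => hx (by simp [h]), fun x hx => by simp [hs.2 x hx]⟩

/-- Restriction of families. -/
def cut (U V : Opens X) : secs rk k F U →+ secs rk k F V where
  toFun s := ⟨fun x => if x.1 ∈ V then s.1 x else 0,
    s.2.1.subset (fun x hx h => hx (by simp [h])), fun x hx => if_neg hx⟩
  map_zero' := by ext x; simp
  map_add' s t := by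
    ext x
    by_cases h : x.1 ∈ V <;> simp [h]

theorem cut_apply {U : Opens X} (V : Opens X) (s : secs rk k F U) (x : Pt rk k) :
    (cut rk k F U V s).1 x = if x.1 ∈ V then s.1 x else 0 := rfl

/-- The presheaf of families with finite support. -/
def pre : TopCat.Presheaf AddCommGrpCat.{u} X where
  obj U := AddCommGrpCat.of (secs rk k F U.unop)
  map {U V} _ := AddCommGrpCat.ofHom (cut rk k F U.unop V.unop)
  map_id U := by
    ext s x
    show (if x.1 ∈ U.unop then s.1 x else 0) = s.1 x
    split_ifs with h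
    · rfl
    · exact (s.2.2 x h).symm
  map_comp {U V W} i j := by
    ext s x
    show (if x.1 ∈ W.unop then s.1 x else 0) = if x.1 ∈ W.unop then (if x.1 ∈ V.unop then s.1 x else 0) else 0
    split_ifs with h h'
    · rfl
    · exact absurd (leOfHom j.unop h) h'
    · rfl

theorem pre_map {U V : (Opens X)ᵒᵖ} (i : U ⟶ V) (s : secs rk k F U.unop) (x : Pt rk k) :
    ((pre rk k F).map i s).1 x = if x.1 ∈ V.unop then s.1 x else 0 := rfl

variable [NoetherianSpace X]

theorem isSheaf_pre : TopCat.Presheaf.IsSheaf (pre rk k F) := by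
  refine (TopCat.Presheaf.isSheaf_iff_isSheafUniqueGluing (pre rk k F)).2 fun ι U sf hsf => ?_
  have hval : ∀ i j (x : Pt rk k), x.1 ∈ U i → x.1 ∈ U j → (sf i).1 x = (sf j).1 x := fun i j x hi hj => by
    have := congrArg (fun s : secs rk k F (U i ⊓ U j) => s.1 x) (hsf i j)
    change (if x.1 ∈ U i ⊓ U j then _ else 0) = (if x.1 ∈ U i ⊓ U j then _ else 0) at this
    rwa [if_pos ⟨hi, hj⟩, if_pos ⟨hi, hj⟩] at this
  let val : Fam rk k F := fun x => if h : ∃ i, x.1 ∈ U i then (sf h.choose).1 x else 0
  have hval' : ∀ i (x : Pt rk k), x.1 ∈ U i → val x = (sf i).1 x := fun i x hi => by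
    have h : ∃ i, x.1 ∈ U i := ⟨i, hi⟩
    simp only [val, dif_pos h]
    exact hval _ i x h.choose_spec hi
  obtain ⟨t, ht⟩ := (NoetherianSpace.isCompact (α := X) ((iSup U : Opens X) : Set X)).elim_finite_subcover
    (fun i => (U i : Set X)) (fun i => (U i).isOpen) (by simp)
  have hmem : val ∈ secs rk k F (iSup U) := by
    refine ⟨(t.finite_toSet.biUnion fun i _ => (sf i).2.1).subset fun x hx => ?_, fun x hx => ?_⟩
    · have h : ∃ i, x.1 ∈ U i := by
        by_contra h
        exact hx (by simp only [val, dif_neg h])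
      obtain ⟨i, hit, hi⟩ := Set.mem_iUnion₂.1 (ht (Opens.mem_iSup.2 h))
      refine Set.mem_iUnion₂.2 ⟨i, hit, ?_⟩
      show (sf i).1 x ≠ 0
      rw [← hval' i x hi]
      exact hx
    · have h : ¬∃ i, x.1 ∈ U i := fun h => hx (Opens.mem_iSup.2 h)
      simp only [val, dif_neg h]
  refine ⟨⟨val, hmem⟩, fun i => Subtype.ext (funext fun x => ?_), fun s hs => Subtype.ext (funext fun x => ?_)⟩
  · show (if x.1 ∈ U i then val x else 0) = (sf i).1 x
    split_ifs with h
    · exact hval' i x h
    · exact ((sf i).2.2 x h).symm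
  · by_cases h : ∃ i, x.1 ∈ U i
    · obtain ⟨i, hi⟩ := h
      show (s : secs rk k F (iSup U)).1 x = val x
      rw [hval' i x hi, ← hs i]
      show _ = if x.1 ∈ U i then (s : secs rk k F (iSup U)).1 x else 0
      rw [if_pos hi]
    · have hx : x.1 ∉ iSup U := fun h' => h (Opens.mem_iSup.1 h')
      show (s : secs rk k F (iSup U)).1 x = val x
      rw [(s : secs rk k F (iSup U)).2.2 x hx, hmem.2 x hx]

/-- The sheaf of families with finite support. -/
def G : CohTop.Ab X := ⟨pre rk k F, isSheaf_pre rk k F⟩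

theorem isFlasque_G : TopCat.Sheaf.IsFlasque (G rk k F) := by
  refine ⟨fun {U V} i => (AddCommGrpCat.epi_iff_surjective _).2 fun s => ?_⟩
  let s' : secs rk k F V.unop := s
  refine ⟨(⟨s'.1, s'.2.1, fun x hx => s'.2.2 x fun h => hx (leOfHom i.unop h)⟩ : secs rk k F U.unop),
    Subtype.ext (funext fun x => ?_)⟩
  show (if x.1 ∈ V.unop then s'.1 x else 0) = s'.1 x
  split_ifs with h
  · rfl
  · exact (s'.2.2 x h).symm

/-- Germs of families vanish off the closures of their supports. -/
theorem germ_eq_zero {U : Opens X} (s : secs rk k F U) {x : X} (hx : x ∈ U)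
    (h : ∀ y : Pt rk k, s.1 y ≠ 0 → x ∉ closure {y.1}) :
    TopCat.Presheaf.germ (pre rk k F) U x hx s = 0 := by
  let W : Opens X := ⟨(U : Set X) ∩ (⋃ y ∈ {y : Pt rk k | s.1 y ≠ 0}, closure {y.1})ᶜ,
    U.isOpen.inter (s.2.1.isClosed_biUnion fun y _ => isClosed_closure).isOpen_compl⟩
  have hxW : x ∈ W := ⟨hx, fun hxu => by
    obtain ⟨y, hy, hxy⟩ := Set.mem_iUnion₂.1 hxu
    exact h y hy hxy⟩
  have h0 : cut rk k F U W s = 0 := Subtype.ext (funext fun y => by
    show (if y.1 ∈ W then s.1 y else 0) = 0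
    split_ifs with hy
    · by_contra hne
      exact hy.2 (Set.mem_iUnion₂.2 ⟨y, hne, subset_closure rfl⟩)
    · rfl)
  rw [← TopCat.Presheaf.germ_res_apply (pre rk k F) (homOfLE (fun z hz => hz.1 : W ≤ U)) x hxW s]
  exact (congrArg _ h0).trans (map_zero _)

end

end GrothLib.GVanish
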