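import Groth.Agent.Lib.GVanish.Main
import Groth.Agent.Lib.ClosedEmb25.Ab

/-! # Vanishing for sheaves supported on a closed Noetherian subspace of bounded dimension -/

set_option autoImplicit false
set_option linter.style.haveILetI false
universe u

open CategoryTheory CategoryTheory.Limits Opposite TopologicalSpace

namespace GrothLib.GVanish

theorem subsingleton_H_of_closedEmbedding {Z X : TopCat.{u}} (i : Z ⟶ X) (hi : Topology.IsClosedEmbedding i)
    [NoetherianSpace Z] (d : ℕ) (hd : topologicalKrullDim Z ≤ d) (F : CohTop.Ab X)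
    (hF : ∀ x : X, x ∉ Set.range i → IsZero (CohTop.stalk F x)) (p : ℕ) (hp : d < p) :
    Subsingleton (CohTop.H F p) := by
  obtain ⟨G, ⟨e⟩⟩ := (ClosedEmb.essImage_iff_ab hi F).2 hF
  obtain ⟨a⟩ := SheafCoh.nonempty_H_addEquiv_push i G (fun q => SheafCoh.isZero_Rpush_of_isClosedEmbedding i hi G q) p
  haveI := subsingleton_H_of_krullDim_le d hd G p hp
  haveI : Subsingleton (CohTop.H ((CohTop.push i).obj G) p) := a.symm.toEquiv.subsingleton
  refine subsingleton_of_forall_eq 0 fun x => ?_
  rw [← Sheaf.H.map_id_apply x, ← e.inv_hom_id, Sheaf.H.map_comp_apply,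
    Subsingleton.elim (α := CohTop.H ((CohTop.push i).obj G) p) (Sheaf.H.map e.inv p x) 0]
  exact map_zero _

end GrothLib.GVanish
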